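import Cfsg.Agent.Lib.Trans3.Spider.Collapse

/-! Generated coset enumeration certificate A5. -/

set_option autoImplicit false
set_option maxRecDepth 100000

namespace CfsgLib.Trans3.Spider.A5

open CfsgLib.InvChar.Coset

/-- facts -/
noncomputable def facts : Tr := (.leaf 0x65000060000640000600006300006000062000060000610000600005500005000054000050000530000500005200005000045000040000440000400004300004000040000040000350000300003400003000031000030000300000300002500002000022000020000210000200002000002000013000010000120000100001100001000010000010000040000000000300000000002000000000010000000000000000000060000050000510000400004200003000033000020000240000100001500000)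
/-- justifications -/
noncomputable def just : Tr := (.leaf 0x50001e00005004100040080001400074000140103001002000050001c0000500408004008000140006c00014010100100200005000040001700004000050040000401000010000680001001080010020000400019000040041c00400800010000600001001060010020000400003000140000300004004140040100000c000580000c010b001002000030001500003004280040080000c0000800044000080000c010900100400003000130000300804004008000080004800008010d00100200002000010000e0000100002004300040100000800040000080206001002000020000f00002008080040080000400000000280000000004010e001004000010000d00001008280040080000400030000040207001002000010000b000010080c004008000000002400000020d0010020000000008000000082c004008000000001c0000002080010020000000006000000081000400a00040000008000c0000020002000000800040000020000000000)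
/-- relators -/
def rels : List (List ℕ) := [[0, 1, 0, 1, 0, 1], [0, 2, 0, 2], [0, 3, 0, 3], [0, 4, 0, 4], [0, 5, 0, 5], [1, 2, 1, 2, 1, 2], [1, 3, 1, 3], [1, 4, 1, 4], [1, 5, 1, 5], [2, 3, 2, 3, 2, 3], [2, 4, 2, 4], [2, 5, 2, 5], [3, 4, 3, 4, 3, 4], [3, 5, 3, 5], [4, 5, 4, 5, 4, 5], [0, 0], [1, 1], [2, 2], [3, 3], [4, 4], [5, 5]]
/-- subgroup words -/
def subs : List (List ℕ) := [[0], [1], [2], [3], [4]]
/-- the local letters -/
def emb : List ℕ := [3, 2, 1, 0, 5, 6]
/-- certificate -/
noncomputable def cert : Cert := ⟨6, 36, 6, facts, just, rels, subs⟩
/-- table -/
noncomputable def permTable : Tr := (.leaf 0x60000600006000060000600005000050000500005000050000400006000040000400004000030000500004000030000300002000040000300003000020000100003000020000200002000000000200001000010000100001000010000000000000000000000000)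
/-- node of a coset -/
noncomputable def live : Tr := (.leaf 0x6000050000400003000020000100000)
/-- fact of an entry -/
noncomputable def fin : Tr := (.leaf 0x230002200021000200001f000050001e0001d0001c0001b00004000050001a000190001800003000040001700016000150000200003000140001300012000010000200011000100000f00000000010000e0000d0000c0000b000000000a00009000080000700006)
/-- table -/
noncomputable def table : Table := ⟨7, 6, permTable⟩

end CfsgLib.Trans3.Spider.A5
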