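import Cfsg.Agent.Lib.Trans3.Spider.Data.A5.Data

set_option autoImplicit false
set_option maxRecDepth 100000

namespace CfsgLib.Trans3.Spider.A5

open CfsgLib.InvChar.Coset

/-- collapse data -/
noncomputable def pa0 : Tr := (.leaf 0x10000100001000000000100001)
/-- collapse data -/
noncomputable def pb0 : Tr := (.leaf 0x60000500004000020000300002)
/-- collapse data -/
noncomputable def pq0 : Tr := (.leaf 0x10000000310000004800000050000000c0000000)
/-- collapse data -/
noncomputable def tm0 : Tr := (.leaf 0x5000040000300001000020000000000)
/-- collapse data -/
noncomputable def rk0 : Tr := (.leaf 0x3000030000300003000010000200000)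
/-- a collapse -/
noncomputable def root0 : Collapse := ⟨1, 4, 6, pa0, pb0, pq0, tm0, rk0⟩
/-- forest -/
noncomputable def forest : Tr := (.leaf 0x50000041000032000023000014000004000000)
/-- classification of the points -/
noncomputable def fixed : Fixed := ⟨[0], [0, 1, 2, 3, 4], forest, [root0]⟩

theorem fixed_ok : fixed.check table = true := by decide +kernel

end CfsgLib.Trans3.Spider.A5
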